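import Mathlib

/-!
Vectors of length six over the integers modulo three with sum zero, modulo constants: the finite facts
used for the orbit of eleven subgroups.
-/

set_option autoImplicit false
set_option linter.style.longLine false
set_option maxRecDepth 20000
set_option maxHeartbeats 1000000

namespace CfsgLib.SuzM11

/-- vectors -/
abbrev Vec := Fin 6 → ZMod 3

/-- sum zero -/
def Valid (v : Vec) : Prop := v 0 + v 1 + v 2 + v 3 + v 4 + v 5 = 0

instance : DecidablePred Valid := fun v => inferInstanceAs (Decidable (_ = _))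

/-- differing by a constant -/
def Sim (u v : Vec) : Prop := ∀ i, u i - v i = u 0 - v 0

instance (u v : Vec) : Decidable (Sim u v) := inferInstanceAs (Decidable (∀ _, _))

theorem sim_iff {u v : Vec} : Sim u v ↔ ∃ c, u = v + fun _ => c := by
  refine ⟨fun h => ⟨u 0 - v 0, funext fun i => ?_⟩, ?_⟩
  · rw [Pi.add_apply, ← h i, add_sub_cancel]
  · rintro ⟨c, rfl⟩ i
    simp

theorem valid_iff {v : Vec} : Valid v ↔ ∑ i, v i = 0 := by rw [Fin.sum_univ_six]; rfl

theorem valid_add {u v : Vec} (hu : Valid u) (hv : Valid v) : Valid (u + v) := by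
  rw [valid_iff] at *
  simp [Finset.sum_add_distrib, hu, hv]

theorem valid_comp {v : Vec} (hv : Valid v) (σ : Equiv.Perm (Fin 6)) : Valid (fun i => v (σ i)) := by
  rw [valid_iff] at *
  rw [Equiv.sum_comp σ v, hv]

theorem valid_const (c : ZMod 3) : Valid fun _ => c := by revert c; decide

/-- The normalised representative with given code. -/
def vec (n : Fin 81) : Vec :=
  let a : ZMod 3 := (n.val : ℕ)
  let b : ZMod 3 := ((n.val / 3 : ℕ) : ZMod 3)
  let c : ZMod 3 := ((n.val / 9 : ℕ) : ZMod 3)
  let d : ZMod 3 := ((n.val / 27 : ℕ) : ZMod 3)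
  ![0, a, b, c, d, -(a + b + c + d)]

/-- The code of the normalised representative. -/
def code (v : Vec) : Fin 81 :=
  ⟨((v 1 - v 0).val + 3 * (v 2 - v 0).val + 9 * (v 3 - v 0).val + 27 * (v 4 - v 0).val) % 81,
    Nat.mod_lt _ (by norm_num)⟩

theorem valid_vec : ∀ n, Valid (vec n) := by decide +kernel

theorem code_vec : ∀ n, code (vec n) = n := by decide +kernel

theorem sim_code : ∀ v : Vec, Valid v → Sim v (vec (code v)) := by decide +kernel

theorem code_eq_of_sim : ∀ n m, Sim (vec n) (vec m) → n = m := by decide +kernel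

/-- the three kinds of nonzero vectors, by the numbers of equal entries -/
def typ (n : Fin 81) : Fin 4 :=
  let s : List ℕ := [0, 1, 2].map fun k : ℕ => (List.finRange 6).countP fun i => (vec n i).val == k
  if n = 0 then 0 else if s.contains 4 then 1 else if s.contains 3 then 2 else 3

theorem typ_count : ((Finset.univ.filter fun n => typ n = 0).card = 1 ∧
    (Finset.univ.filter fun n => typ n = 1).card = 30) ∧
    (Finset.univ.filter fun n => typ n = 2).card = 20 ∧
    (Finset.univ.filter fun n => typ n = 3).card = 30 := by decide +kernel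

/-- The representative of each kind. -/
def base : Fin 4 → Fin 81 := ![0, 1, 4, 14]

theorem typ_base : ∀ k, typ (base k) = k := by decide +kernel

theorem vec_base_zero : vec (base 0) = fun _ => 0 := by decide +kernel

theorem orbit : ∀ n, ∃ σ : Equiv.Perm (Fin 6), Equiv.Perm.sign σ = 1 ∧
    Sim (fun i => vec (base (typ n)) (σ i)) (vec n) := by
  decide +kernel

/-- The vectors fixed by the double transposition. -/
def plane : Finset (Fin 81) :=
  Finset.univ.filter fun n => vec n 0 = vec n 1 ∧ vec n 2 = vec n 3

theorem plane_count : (plane.filter fun n => typ n = 0).card = 1 ∧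
    (plane.filter fun n => typ n = 1).card = 2 ∧
    (plane.filter fun n => typ n = 2).card = 4 ∧
    (plane.filter fun n => typ n = 3).card = 2 := by decide +kernel

theorem plane_card : plane.card = 9 := by decide +kernel

/-- The double transposition. -/
def tau : Equiv.Perm (Fin 6) := Equiv.swap 0 1 * Equiv.swap 2 3

theorem tau_facts : Equiv.Perm.sign tau = 1 ∧ tau * tau = 1 ∧ tau ≠ 1 ∧
    (∀ n ∈ plane, (fun i => vec n (tau i)) = vec n) ∧
    ∀ n, Sim (fun i => vec n (tau i)) (vec n) → n ∈ plane := by
  decide +kernel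

/-- The vectors with the first two entries equal. -/
def halfSpace : Finset (Fin 81) := Finset.univ.filter fun n => vec n 0 = vec n 1

theorem halfSpace_card : halfSpace.card = 27 := by decide +kernel

theorem mover : ∃ σ : Equiv.Perm (Fin 6), Equiv.Perm.sign σ = 1 ∧
    ¬ Sim (fun i => vec (base 2) (σ i)) (vec (base 2)) ∧
    ¬ Sim (fun i => vec (base 2) (σ i)) (vec (base 2) + vec (base 2)) := by
  decide +kernel

theorem only_one_fixes : ∀ σ : Equiv.Perm (Fin 6), (∀ n, Sim (fun i => vec n (σ i)) (vec n)) → σ = 1 := by
  decide +kernel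

/-- The five basic differences. -/
def diff (i : Fin 5) : Vec := fun j => if j = i.succ then 1 else if j = 0 then -1 else 0

theorem valid_diff : ∀ i, Valid (diff i) := by decide +kernel

theorem diff_swap : ∀ i j : Fin 5, i ≠ j → ∃ σ : Equiv.Perm (Fin 6), Equiv.Perm.sign σ = 1 ∧
    (fun k => diff i (σ k)) = diff j ∧ (fun k => diff j (σ k)) = diff i := by
  decide +kernel

theorem diff_neg : ∀ i : Fin 5, ∃ σ : Equiv.Perm (Fin 6), Equiv.Perm.sign σ = 1 ∧
    (fun k => diff i (σ k)) = -diff i := by
  decide +kernel

theorem diff_span (v : Vec) (hv : Valid v) : v = ∑ i : Fin 5, (v i.succ).val • diff i := by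
  revert v; decide +kernel

end CfsgLib.SuzM11
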