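import Cfsg.Agent.Lib.UFourThreeSix.Uniq
import Cfsg.Agent.Lib.UFourThreeSix.Normaliser
import Cfsg.Agent.Lib.SuzM11.Vectors

/-!
The elementary abelian subgroup of order `81` of `PSU_4(3)` in the monomial model, with its normalizer.
-/

set_option autoImplicit false
set_option linter.unusedSectionVars false
set_option maxHeartbeats 1000000

namespace CfsgLib.SuzM11

/-- The properties of the elementary abelian subgroup of order 81 which are used. -/
structure UData (U : Type*) [Group U] where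
  e : Vec → U
  e_add : ∀ {u v : Vec}, Valid u → Valid v → e (u + v) = e u * e v
  e_const : ∀ c : ZMod 3, e (fun _ => c) = 1
  e_ker : ∀ {v : Vec}, Valid v → e v = 1 → Sim v 0
  p : alternatingGroup (Fin 6) →* U
  p_conj : ∀ (σ : alternatingGroup (Fin 6)) {v : Vec}, Valid v →
    p σ * e v * (p σ)⁻¹ = e fun i => v ((σ : Equiv.Perm (Fin 6)).symm i)
  p_eq_e : ∀ (σ : alternatingGroup (Fin 6)) {v : Vec}, Valid v → p σ = e v → σ = 1
  self_cent : ∀ u, (∀ v, Valid v → u * e v = e v * u) → ∃ v, Valid v ∧ u = e v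
  norm_cases : ∀ u, (∀ v, Valid v → ∃ w, Valid w ∧ u * e v * u⁻¹ = e w) →
    (∃ σ v, Valid v ∧ u = e v * p σ) ∨
      ∃ t, t * t = 1 ∧ t ≠ 1 ∧ ∀ v, Valid v → v 0 = v 1 → t * e v = e v * t
  conj81 : ∀ B : Subgroup U, Nat.card B = 81 → (∀ a ∈ B, ∀ b ∈ B, a * b = b * a) →
    ∃ u, ∀ b ∈ B, ∃ v, Valid v ∧ u * b * u⁻¹ = e v

open CfsgLib.U43Six

variable {F : Type*} [Field F] [Fintype F] (D : Four F)

/-- Powers of the root. -/
noncomputable def W (a : ZMod 3) : Fˣ := D.w ^ a.val

theorem W_zero : W D 0 = 1 := pow_zero _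

theorem W_add (a b : ZMod 3) : W D (a + b) = W D a * W D b := by
  rw [W, W, W, ← pow_add, ZMod.val_add, ← pow_eq_pow_mod _ (D.unit_cube D.w)]

theorem W_sum (v : Vec) : ∏ i, W D (v i) = W D (∑ i, v i) := by
  simp only [Fin.prod_univ_six, Fin.sum_univ_six, W_add]

theorem W_eq_one {a : ZMod 3} (h : W D a = 1) : a = 0 := by
  have := orderOf_dvd_of_pow_eq_one h
  rw [orderOf_w] at this
  exact (ZMod.val_eq_zero a).1 (Nat.eq_zero_of_dvd_of_lt this (ZMod.val_lt a))

theorem W_inj {a b : ZMod 3} (h : W D a = W D b) : a = b := by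
  have h' : W D (a - b) * W D b = 1 * W D b := by rw [← W_add, sub_add_cancel, one_mul, h]
  exact sub_eq_zero.1 (W_eq_one D (mul_right_cancel h'))

theorem W_surj (u : Fˣ) : ∃ a, W D a = u := by
  obtain ⟨n, rfl⟩ := exists_pow_w D u
  exact ⟨(n : ZMod 3), by rw [W, ZMod.val_natCast, ← pow_eq_pow_mod _ (D.unit_cube D.w)]⟩

/-- The diagonal entries of a vector. -/
noncomputable def wv (v : Vec) : Fin 6 → Fˣ := fun i => W D (v i)

theorem wv_add (u v : Vec) : wv D (u + v) = wv D u * wv D v := funext fun _ => W_add D _ _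

theorem wv_prod {v : Vec} : ∏ i, wv D v i = 1 ↔ Valid v := by
  rw [valid_iff]
  show ∏ i, W D (v i) = 1 ↔ _
  rw [W_sum]
  exact ⟨W_eq_one D, fun h => by rw [h, W_zero]⟩

theorem exists_wv (c : Fin 6 → Fˣ) : ∃ v, wv D v = c := by
  choose v hv using fun i => W_surj D (c i)
  exact ⟨v, funext hv⟩

theorem dd_wv_mem {v : Vec} (hv : Valid v) : dd D (wv D v) ∈ X0 D :=
  Mgrp_le_X0 D ((dd_mem_Mgrp D).2 ((wv_prod D).2 hv))

/-- The images in the quotient. -/
noncomputable def ev (v : Vec) : (X0 D) ⧸ Subgroup.center (X0 D) :=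
  if hv : Valid v then cls D _ (dd_wv_mem D hv) else 1

theorem ev_eq {v : Vec} (hv : Valid v) : ev D v = cls D _ (dd_wv_mem D hv) := dif_pos hv

/-- The images of the even permutations. -/
noncomputable def pv : alternatingGroup (Fin 6) →* (X0 D) ⧸ Subgroup.center (X0 D) :=
  (QuotientGroup.mk' _).comp <| ((pm D).comp (alternatingGroup (Fin 6)).subtype).codRestrict (X0 D)
    fun σ => pm_mem_X0 D (Equiv.Perm.mem_alternatingGroup.1 σ.2)

theorem pv_eq (σ : alternatingGroup (Fin 6)) :
    pv D σ = cls D (pm D σ) (pm_mem_X0 D (Equiv.Perm.mem_alternatingGroup.1 σ.2)) := rfl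

theorem cls_inv {x : G6 F} (hx : x ∈ X0 D) : (cls D x hx)⁻¹ = cls D x⁻¹ (inv_mem hx) := rfl

theorem cls_conj {x y : G6 F} (hx : x ∈ X0 D) (hy : y ∈ X0 D) :
    cls D x hx * cls D y hy * (cls D x hx)⁻¹ = cls D (x * y * x⁻¹) (mul_mem (mul_mem hx hy) (inv_mem hx)) :=
  rfl

theorem ev_sim {u v : Vec} (hu : Valid u) (hv : Valid v) (h : ev D u = ev D v) : Sim v u := by
  rw [ev_eq D hu, ev_eq D hv, cls_eq_iff] at h
  obtain ⟨x, hx⟩ := h
  obtain ⟨a, ha⟩ := W_surj D x
  rw [← map_mul] at hx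
  refine sim_iff.2 ⟨a, funext fun i => W_inj D ?_⟩
  have := congrFun (dd_injective D hx) i
  rw [Pi.mul_apply] at this
  show wv D v i = _
  rw [this, Pi.add_apply, W_add, ha]
  rfl

theorem mul_ev_eq {v v' : Vec} (hv : Valid v) (hv' : Valid v') {π π' : Equiv.Perm (Fin 6)}
    (hπ : pm D π ∈ X0 D) (hπ' : pm D π' ∈ X0 D)
    (h : cls D _ (dd_wv_mem D hv) * cls D _ hπ = cls D _ (dd_wv_mem D hv') * cls D _ hπ') : π = π' := by
  rw [← cls_mul, ← cls_mul, cls_eq_iff] at h
  obtain ⟨x, hx⟩ := h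
  rw [scalar_comm, ← mul_assoc, ← map_mul] at hx
  exact (mono_unique D hx).2.symm

/-- A normalising element is monomial. -/
theorem norm_mono {g : G6 F} (hg : g ∈ X0 D)
    (h : ∀ v, Valid v → ∃ w, Valid w ∧ cls D g hg * ev D v * (cls D g hg)⁻¹ = ev D w) :
    ∃ (v : Vec) (π : Equiv.Perm (Fin 6)), Valid v ∧ g = dd D (wv D v) * pm D π := by
  obtain ⟨c, π, hcπ⟩ := monomial_of_normalises D g⁻¹ fun m hm => by
    obtain ⟨c, hc, rfl⟩ := (mem_Mgrp D).1 hm
    obtain ⟨v, rfl⟩ := exists_wv D c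
    have hv := (wv_prod D).1 hc
    obtain ⟨w, hw, e⟩ := h v hv
    rw [ev_eq D hv, ev_eq D hw, cls_conj, eq_comm, cls_eq_iff] at e
    obtain ⟨x, hx⟩ := e
    rw [inv_inv, hx]
    exact mul_mem ((dd_mem_Mgrp D).2 ((wv_prod D).2 hw)) (scalar_mem D x)
  have hg' : g = dd D (fun i => (c (π i))⁻¹) * pm D π⁻¹ := by
    rw [← inv_inv g, hcπ, _root_.mul_inv_rev, ← map_inv, ← map_inv, pm_mul_dd]
    rfl
  obtain ⟨v, hv⟩ := exists_wv D fun i => (c (π i))⁻¹
  refine ⟨v, π⁻¹, (wv_prod D).1 ?_, by rw [hv]; exact hg'⟩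
  have hd := detU_X0 D hg
  rw [hg', map_mul, detU_pm, mul_one, detU_dd, ← hv] at hd
  exact Units.ext (by rw [hd, Units.val_one])

theorem mono_conj {v : Vec} (hv : Valid v) {w : Vec} (π : Equiv.Perm (Fin 6)) {g : G6 F} (hg : g ∈ X0 D)
    (hgv : g = dd D (wv D w) * pm D π) :
    cls D g hg * ev D v * (cls D g hg)⁻¹ = ev D (fun i => v (π.symm i)) := by
  rw [ev_eq D hv, ev_eq D (valid_comp hv π.symm), cls_conj]
  refine cls_eq (D := D) _ _ ?_
  subst hgv
  have e : pm D π * dd D (wv D v) * (pm D π)⁻¹ = dd D (wv D fun i => v (π.symm i)) := pm_conj D π _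
  rw [_root_.mul_inv_rev]
  calc dd D (wv D w) * pm D π * dd D (wv D v) * ((pm D π)⁻¹ * (dd D (wv D w))⁻¹)
      = dd D (wv D w) * (pm D π * dd D (wv D v) * (pm D π)⁻¹) * (dd D (wv D w))⁻¹ := by group
    _ = _ := by rw [e, ← map_inv, ← map_mul, ← map_mul, mul_comm (wv D w), mul_inv_cancel_right]

theorem fixed_count : ∀ σ : Equiv.Perm (Fin 6), Equiv.Perm.sign σ = 1 → σ * cyc₁ = cyc₁ * σ →
    σ * cyc₂ = cyc₂ * σ → σ ≠ 1 →
    (Finset.univ.filter fun n => Sim (fun i => vec n (σ.symm i)) (vec n)).card ≤ 9 := by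
  decide +kernel

theorem fixed_count_two : (Finset.univ.filter fun n =>
    Sim (fun i => vec n (cyc₁.symm i)) (vec n) ∧ Sim (fun i => vec n (cyc₂.symm i)) (vec n)).card ≤ 3 := by
  decide +kernel

variable {K : Type*} [Field K] [Fintype K]

/-- The model gives the data. -/
noncomputable def uData (E : Nine K) : UData ((X0 D) ⧸ Subgroup.center (X0 D)) where
  e := ev D
  e_add := fun {u v} hu hv => by
    rw [ev_eq D (valid_add hu hv), ev_eq D hu, ev_eq D hv, ← cls_mul]
    exact cls_eq (D := D) _ _ (by rw [wv_add, map_mul])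
  e_const := fun c => by
    rw [ev_eq D (valid_const c), ← map_one (QuotientGroup.mk' (Subgroup.center (X0 D))), eq_comm]
    refine (cls_eq_iff (D := D) (one_mem _) (dd_wv_mem D (valid_const c))).2 ⟨W D c, ?_⟩
    rw [one_mul]; rfl
  e_ker := fun {v} hv h => by
    refine ev_sim D (u := 0) (valid_const 0) hv ?_
    rw [h, show (0 : Vec) = fun _ => (0 : ZMod 3) from rfl, ev_eq D (valid_const 0)]
    refine (cls_eq (D := D) _ (one_mem _) ?_).trans rfl
    rw [show wv D (fun _ => (0 : ZMod 3)) = 1 from funext fun _ => W_zero D, map_one]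
  p := pv D
  p_conj := fun σ {v} hv => mono_conj D hv (w := 0) σ _ (by
    rw [show wv D (0 : Vec) = 1 from funext fun _ => W_zero D, map_one, one_mul]; rfl)
  p_eq_e := fun σ {v} hv h => by
    have h1 : pm D (1 : Equiv.Perm (Fin 6)) ∈ X0 D := by rw [map_one]; exact one_mem _
    have hσ := pm_mem_X0 D (Equiv.Perm.mem_alternatingGroup.1 σ.2)
    refine Subtype.ext (mul_ev_eq D (valid_const 0) hv hσ h1 ?_)
    rw [← cls_mul, ← cls_mul]
    rw [pv_eq, ev_eq D hv] at h
    refine (cls_eq (D := D) _ hσ ?_).trans (h.trans (cls_eq (D := D) _ _ ?_).symm)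
    · rw [show wv D (fun _ => (0 : ZMod 3)) = 1 from funext fun _ => W_zero D, map_one, one_mul]
    · show _ * pm D 1 = _
      rw [map_one, mul_one]
  self_cent := fun u hu => by
    obtain ⟨⟨g, hg⟩, rfl⟩ := QuotientGroup.mk'_surjective _ u
    change ∀ v, Valid v → cls D g hg * ev D v = ev D v * cls D g hg at hu
    have hconj : ∀ v, Valid v → cls D g hg * ev D v * (cls D g hg)⁻¹ = ev D v := fun v hv => by
      rw [hu v hv, mul_inv_cancel_right]
    obtain ⟨w, π, hw, hgw⟩ := norm_mono D hg fun v hv => ⟨v, hv, hconj v hv⟩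
    have hπ : π = 1 := by
      have h1 := only_one_fixes π.symm fun n => by
        have h := hconj _ (valid_vec n)
        rw [mono_conj D (valid_vec n) π hg hgw] at h
        exact ev_sim D (valid_vec n) (valid_comp (valid_vec n) π.symm) h.symm
      rw [← Equiv.symm_symm π, h1]; rfl
    refine ⟨w, hw, ?_⟩
    show cls D g hg = ev D w
    rw [ev_eq D hw]
    exact cls_eq (D := D) _ _ (by rw [hgw, hπ, map_one, mul_one])
  norm_cases := fun u hu => by
    obtain ⟨⟨g, hg⟩, rfl⟩ := QuotientGroup.mk'_surjective _ u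
    obtain ⟨w, π, hw, hgw⟩ := norm_mono D hg hu
    have hπX : pm D π ∈ X0 D := by
      have : pm D π = (dd D (wv D w))⁻¹ * g := by rw [hgw, inv_mul_cancel_left]
      rw [this]; exact mul_mem (inv_mem (dd_wv_mem D hw)) hg
    by_cases hs : Equiv.Perm.sign π = 1
    · refine Or.inl ⟨⟨π, Equiv.Perm.mem_alternatingGroup.2 hs⟩, w, hw, ?_⟩
      show cls D g hg = _
      rw [pv_eq, ev_eq D hw, ← cls_mul]
      exact cls_eq (D := D) _ _ hgw
    · refine Or.inr ?_
      have hsw : pm D (Equiv.swap 0 1) ∈ X0 D := by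
        have he : Equiv.Perm.sign (Equiv.swap (0 : Fin 6) 1 * π⁻¹) = 1 := by
          rw [map_mul, map_inv, Equiv.Perm.sign_swap (by decide), (Int.units_eq_one_or _).resolve_left hs]
          rfl
        have := mul_mem (pm_mem_X0 D he) hπX
        rwa [← map_mul, inv_mul_cancel_right] at this
      refine ⟨cls D _ hsw, ?_, fun h => ?_, fun v hv h01 => ?_⟩
      · rw [← cls_mul]
        refine (cls_eq (D := D) _ (one_mem _) ?_).trans rfl
        rw [← map_mul, Equiv.swap_mul_self, map_one]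
      · obtain ⟨x, hx⟩ := (cls_eq_iff (D := D) hsw (one_mem _)).1 (h.trans rfl)
        rw [scalar_comm] at hx
        have h1 : dd D (1 : Fin 6 → Fˣ) * pm D 1 = dd D (fun _ => x) * pm D (Equiv.swap 0 1) := by
          rw [map_one, map_one, one_mul, ← hx]
        exact absurd (mono_unique D h1).2 (by decide)
      · have h := mono_conj D hv (w := 0) (Equiv.swap (0 : Fin 6) 1) hsw (by
          rw [show wv D (0 : Vec) = 1 from funext fun _ => W_zero D, map_one, one_mul])
        have e : (fun i => v ((Equiv.swap (0 : Fin 6) 1).symm i)) = v := funext fun i => by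
          rw [Equiv.symm_swap]
          rcases eq_or_ne i 0 with rfl | h0
          · rw [Equiv.swap_apply_left, h01]
          rcases eq_or_ne i 1 with rfl | h1
          · rw [Equiv.swap_apply_right, h01]
          · rw [Equiv.swap_apply_of_ne_of_ne h0 h1]
        rw [e] at h
        exact mul_inv_eq_iff_eq_mul.1 h
  conj81 := fun B hB hab => by
    classical
    have := Fact.mk Nat.prime_three
    have hfin : Finite (X0 D) := Nat.finite_of_card_ne_zero (by rw [card_X0 D E]; norm_num)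
    have hsurj := QuotientGroup.mk'_surjective (Subgroup.center (X0 D))
    have hB' : Nat.card (B.comap (QuotientGroup.mk' (Subgroup.center (X0 D)))) = 243 := by
      rw [card_comap_surj _ hsurj, QuotientGroup.ker_mk', card_center_X0, hB]
    have hfac : (Nat.card (X0 D)).factorization 3 = 7 := by
      rw [card_X0 D E, show (9797760 : ℕ) = 3 ^ 7 * 4480 by norm_num,
        Nat.factorization_mul (by norm_num) (by norm_num), Nat.factorization_pow, Finsupp.add_apply,
        Finsupp.smul_apply, Nat.Prime.factorization_self Nat.prime_three,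
        Nat.factorization_eq_zero_of_not_dvd (by norm_num)]
      rfl
    let S : Sylow 3 (X0 D) := Sylow.ofCard ((S0 D).subgroupOf (X0 D)) (by
      rw [hfac, Nat.card_congr (Subgroup.subgroupOfEquivOfLe (S0_le_X0 D)).toEquiv, card_S0])
    have hp : IsPGroup 3 (B.comap (QuotientGroup.mk' (Subgroup.center (X0 D)))) :=
      IsPGroup.of_card (n := 5) (by rw [hB']; norm_num)
    obtain ⟨Q, hQ⟩ := hp.exists_le_sylow
    obtain ⟨x, hx⟩ := MulAction.exists_smul_eq (X0 D) Q S
    refine ⟨QuotientGroup.mk' _ x, ?_⟩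
    have hform : ∀ b : B, ∃ (v : Vec) (π : Equiv.Perm (Fin 6)) (hπ : π ∈ R9) (hv : Valid v),
        QuotientGroup.mk' (Subgroup.center (X0 D)) x * (b : (X0 D) ⧸ Subgroup.center (X0 D)) * (QuotientGroup.mk' _ x)⁻¹ =
          cls D _ (dd_wv_mem D hv) * cls D _ (pm_mem_X0 D hπ.1) := by
      rintro ⟨b, hb⟩
      obtain ⟨g, rfl⟩ := hsurj b
      have h1 : x * g * x⁻¹ ∈ ((x • Q : Sylow 3 (X0 D)) : Subgroup (X0 D)) := by
        rw [Sylow.coe_subgroup_smul]
        exact ⟨g, hQ hb, rfl⟩
      rw [hx] at h1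
      obtain ⟨c, hc, π, hπ, e⟩ := h1
      obtain ⟨v, rfl⟩ := exists_wv D c
      refine ⟨v, π, hπ, (wv_prod D).1 hc, ?_⟩
      rw [← cls_mul, ← map_inv, ← map_mul, ← map_mul]
      show cls D ((x * g * x⁻¹ : X0 D) : G6 F) (x * g * x⁻¹).2 = _
      exact cls_eq (D := D) _ _ e
    choose v π hπ hv hform using hform
    let T : B →* Equiv.Perm (Fin 6) := MonoidHom.mk' π fun a b => by
      have h : QuotientGroup.mk' (Subgroup.center (X0 D)) x * (↑(a * b) : (X0 D) ⧸ Subgroup.center (X0 D)) *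
          (QuotientGroup.mk' _ x)⁻¹ = (QuotientGroup.mk' _ x * (a : (X0 D) ⧸ Subgroup.center (X0 D)) * (QuotientGroup.mk' _ x)⁻¹) *
            (QuotientGroup.mk' _ x * (b : (X0 D) ⧸ Subgroup.center (X0 D)) * (QuotientGroup.mk' _ x)⁻¹) := by
        rw [Subgroup.coe_mul]; group
      rw [hform, hform, hform] at h
      have hc := valid_add (hv a) (valid_comp (hv b) (π a).symm)
      refine mul_ev_eq D (hv (a * b)) hc (π' := π a * π b) (pm_mem_X0 D (hπ (a * b)).1)
        (by rw [map_mul]; exact mul_mem (pm_mem_X0 D (hπ a).1) (pm_mem_X0 D (hπ b).1)) ?_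
      rw [h, ← cls_mul, ← cls_mul, ← cls_mul, ← cls_mul]
      refine cls_eq (D := D) _ _ ?_
      rw [wv_add, map_mul, map_mul, mul_assoc (dd D (wv D (v a))), ← mul_assoc (pm D (π a)), pm_mul_dd]
      simp only [mul_assoc]
      rfl
    have hcomm : ∀ (a : B) (k : T.ker), Sim (fun i => v (k : B) ((π a).symm i)) (v (k : B)) := by
      intro a k
      have hk : π (k : B) = 1 := MonoidHom.mem_ker.1 k.2
      have hka : cls D _ (dd_wv_mem D (hv (k : B))) * cls D _ (pm_mem_X0 D (hπ (k : B)).1) =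
          ev D (v (k : B)) := by
        rw [ev_eq D (hv _), ← cls_mul]
        exact cls_eq (D := D) _ _ (by rw [hk, map_one, mul_one])
      have e1 := congrArg (fun y => QuotientGroup.mk' (Subgroup.center (X0 D)) x * y *
        (QuotientGroup.mk' _ x)⁻¹) (hab _ a.2 _ (k : B).2)
      have e2 : ∀ p q : (X0 D) ⧸ Subgroup.center (X0 D), QuotientGroup.mk' _ x * (p * q) *
          (QuotientGroup.mk' _ x)⁻¹ = (QuotientGroup.mk' _ x * p * (QuotientGroup.mk' _ x)⁻¹) *
            (QuotientGroup.mk' _ x * q * (QuotientGroup.mk' _ x)⁻¹) := fun p q => by group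
      rw [e2, e2, hform a, hform (k : B), hka, ← cls_mul] at e1
      have e3 := mono_conj D (hv (k : B)) (π a) (mul_mem (dd_wv_mem D (hv a)) (pm_mem_X0 D (hπ a).1)) rfl
      rw [e1, mul_inv_cancel_right] at e3
      exact ev_sim D (hv _) (valid_comp (hv _) (π a).symm) e3
    have hbound : ∀ S' : Finset (Fin 81),
        (∀ k : T.ker, code (v (k : B)) ∈ S') → Nat.card T.ker ≤ S'.card := by
      intro S' hS'
      rw [← Nat.card_eq_finsetCard]
      refine Nat.card_le_card_of_injective (fun k => (⟨code (v (k : B)), hS' k⟩ : S')) fun k k' h => ?_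
      have hc : code (v (k : B)) = code (v (k' : B)) := congrArg Subtype.val h
      refine Subtype.ext (Subtype.ext ?_)
      refine mul_left_cancel (a := QuotientGroup.mk' _ x) (mul_right_cancel (b := (QuotientGroup.mk' _ x)⁻¹) ?_)
      rw [hform, hform, ← cls_mul, ← cls_mul, cls_eq_iff]
      have h1 : Sim (v (k' : B)) (v (k : B)) := by
        have a1 := sim_code _ (hv (k : B))
        have a2 := sim_code _ (hv (k' : B))
        rw [← hc] at a2
        intro i
        linear_combination a2 i - a1 i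
      obtain ⟨c, hc'⟩ := sim_iff.1 h1
      refine ⟨W D c, ?_⟩
      rw [show π (k : B) = 1 from MonoidHom.mem_ker.1 k.2, show π (k' : B) = 1 from MonoidHom.mem_ker.1 k'.2,
        map_one, mul_one, mul_one, hc', wv_add, map_mul]
      rfl
    have hsim : ∀ (a : B) (k : T.ker),
        Sim (fun i => vec (code (v (k : B))) ((π a).symm i)) (vec (code (v (k : B)))) := by
      intro a k i
      have h0 := hcomm a k i
      have h1 := sim_code _ (hv (k : B))
      linear_combination h0 - h1 ((π a).symm i) + h1 i + h1 ((π a).symm 0)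
    have hrle : T.range ≤ R9 := by rintro _ ⟨a, rfl⟩; exact hπ a
    have hmul := Subgroup.card_mul_index T.ker
    rw [Subgroup.index_ker, hB] at hmul
    have hdvd := Subgroup.card_dvd_of_le hrle
    rw [card_R9] at hdvd
    have hbot : ∀ a : B, π a = 1 := by
      intro a
      by_contra ha
      have h9 : Nat.card T.ker ≤ 9 := (hbound _ fun k => Finset.mem_filter.2
        ⟨Finset.mem_univ _, hsim a k⟩).trans (fixed_count _ (hπ a).1 (hπ a).2.1 (hπ a).2.2 ha)
      have hle := Nat.le_of_dvd (by norm_num) hdvd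
      rcases lt_or_eq_of_le hle with hlt | heq
      · have := Nat.mul_le_mul h9 (Nat.le_of_lt_succ (Nat.lt_succ_of_lt hlt))
        have h3 : Nat.card T.range ≤ 8 := by omega
        have := Nat.mul_le_mul h9 h3
        omega
      · have hR := Subgroup.eq_of_le_of_card_ge hrle (by rw [card_R9, heq])
        obtain ⟨a1, ha1⟩ := MonoidHom.mem_range.1 (hR ▸ cyc_mem.1)
        obtain ⟨a2, ha2⟩ := MonoidHom.mem_range.1 (hR ▸ cyc_mem.2)
        have h3 : Nat.card T.ker ≤ 3 := (hbound _ fun k => Finset.mem_filter.2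
          ⟨Finset.mem_univ _, by rw [← show π a1 = cyc₁ from ha1]; exact hsim a1 k,
            by rw [← show π a2 = cyc₂ from ha2]; exact hsim a2 k⟩).trans fixed_count_two
        rw [heq] at hmul
        omega
    intro b hb
    refine ⟨v ⟨b, hb⟩, hv _, ?_⟩
    rw [hform ⟨b, hb⟩, ev_eq D (hv _), ← cls_mul]
    exact cls_eq (D := D) _ _ (by rw [hbot, map_one, mul_one])

end CfsgLib.SuzM11
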