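import Mathlib
import Cfsg.Agent.Lib.Sporadic.SharpTrans
import Cfsg.Agent.Lib.Sporadic.M11Unique

/-!
A group of order 7920 with a subgroup of order 720 whose core does not contain an embedded alternating
group of degree six is the Mathieu group of degree eleven.
-/

set_option autoImplicit false

namespace CfsgLib.SuzM11

open Subgroup

/-- No group of order `11 * 360` acts faithfully on eleven cosets. -/
theorem no_degree_eleven {H : Type*} [Group H] [Finite H] (S : Subgroup H) (hi : S.index = 11)
    (hcore : S.normalCore = ⊥) : Nat.card S ≠ 360 := by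
  classical
  intro hS
  have : Fact (Nat.Prime 11) := ⟨by norm_num⟩
  let _ : Fintype (H ⧸ S) := Fintype.ofFinite _
  have hα : Fintype.card (H ⧸ S) = 11 := by
    rw [← Nat.card_eq_fintype_card, ← Subgroup.index_eq_card, hi]
  let φ := MulAction.toPermHom H (H ⧸ S)
  have hinj : Function.Injective φ := by
    rw [← MonoidHom.ker_eq_bot_iff, ← Subgroup.normalCore_eq_ker, hcore]
  have hG : Nat.card φ.range = 3960 := by
    rw [← Nat.card_congr (MonoidHom.ofInjective hinj).toEquiv, ← S.card_mul_index, hS, hi]
  obtain ⟨P⟩ := (inferInstance : Nonempty (Sylow 11 φ.range))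
  obtain ⟨-, e, he, hN, -⟩ := CfsgLib.Sporadic.SharpTrans.sylow_data_prime hα (by rw [hG]; norm_num) P
  have h1 := card_sylow_modEq_one 11 φ.range
  have h2 := Subgroup.card_mul_index (Subgroup.normalizer ((P : Subgroup φ.range) : Set φ.range))
  have h3 : Nat.card (Sylow 11 φ.range) = (Subgroup.normalizer ((P : Subgroup φ.range) : Set φ.range)).index :=
    P.card_eq_index_normalizer
  rw [← h3, hN, hG] at h2
  have hle := Nat.le_of_dvd (by norm_num) he
  have hepos : 0 < e := Nat.pos_of_dvd_of_pos he (by norm_num)
  generalize Nat.card (Sylow 11 φ.range) = s at h1 h2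
  unfold Nat.ModEq at h1
  interval_cases e <;> omega

/-- The normalizer of a subgroup of order eleven is too small. -/
theorem not_normal_eleven {H : Type*} [Group H] [Finite H] (S : Subgroup H) (hi : S.index = 11)
    (hS : Nat.card S = 720) (hcore : S.normalCore = ⊥) (P : Sylow 11 H) : ¬ (P : Subgroup H).Normal := by
  classical
  intro hn
  have : Fact (Nat.Prime 11) := ⟨by norm_num⟩
  let _ : Fintype (H ⧸ S) := Fintype.ofFinite _
  have hα : Fintype.card (H ⧸ S) = 11 := by
    rw [← Nat.card_eq_fintype_card, ← Subgroup.index_eq_card, hi]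
  let φ := MulAction.toPermHom H (H ⧸ S)
  have hinj : Function.Injective φ := by
    rw [← MonoidHom.ker_eq_bot_iff, ← Subgroup.normalCore_eq_ker, hcore]
  have hG : Nat.card φ.range = 7920 := by
    rw [← Nat.card_congr (MonoidHom.ofInjective hinj).toEquiv, ← S.card_mul_index, hS, hi]
  have hsurj : Function.Surjective φ.rangeRestrict := φ.rangeRestrict_surjective
  set P' := P.mapSurjective hsurj with hP'
  have hn' : (P' : Subgroup φ.range).Normal := by
    rw [hP', Sylow.coe_mapSurjective]
    exact hn.map _ hsurj
  obtain ⟨-, e, he, hN, -⟩ := CfsgLib.Sporadic.SharpTrans.sylow_data_prime hα (by rw [hG]; norm_num) P'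
  rw [Subgroup.normalizer_eq_top_iff.2 hn', Subgroup.card_top, hG] at hN
  have hle := Nat.le_of_dvd (by norm_num) he
  omega

/-- Recognition of the Mathieu group of degree eleven. -/
theorem nonempty_equiv {H : Type*} [Group H] [Finite H] (hH : Nat.card H = 7920) (S : Subgroup H)
    (hS : Nat.card S = 720) (φ : alternatingGroup (Fin 6) →* H) (hφ : Function.Injective φ)
    (hle : φ.range ≤ S) (hnot : ¬ φ.range ≤ S.normalCore) :
    Nonempty (H ≃* Cfsg.Spor.M11) := by
  classical
  have : Fact (Nat.Prime 11) := ⟨by norm_num⟩
  have hi : S.index = 11 := by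
    have := S.card_mul_index
    rw [hH, hS] at this
    omega
  have : IsSimpleGroup φ.range :=
    have : IsSimpleGroup (alternatingGroup (Fin 6)) := alternatingGroup.isSimpleGroup (by simp)
    (MonoidHom.ofInjective hφ).isSimpleGroup_congr.1 this
  have hR : Nat.card φ.range = 360 := by
    rw [← Nat.card_congr (MonoidHom.ofInjective hφ).toEquiv,
      nat_card_alternatingGroup, Nat.card_fin]
    rfl
  have hRi : φ.range.relIndex S = 2 := by
    have := Subgroup.relIndex_mul_index hle
    have h2 := φ.range.card_mul_index
    rw [hR, hH] at h2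
    rw [hi] at this
    omega
  -- a normal subgroup of `S` is small or contains the image
  have hsmall : ∀ N : Subgroup H, N ≤ S → (∀ s ∈ S, ∀ n ∈ N, s * n * s⁻¹ ∈ N) →
      Nat.card N ≤ 2 ∨ Nat.card N = 360 ∨ Nat.card N = 720 := by
    intro N hN hnorm
    have : (N.subgroupOf φ.range).Normal := ⟨fun n hn r => hnorm _ (hle r.2) _ hn⟩
    rcases IsSimpleGroup.eq_bot_or_eq_top_of_normal _ this with h | h
    · left
      have hb : N ⊓ φ.range = ⊥ := by
        rw [Subgroup.subgroupOf_eq_bot] at h
        exact disjoint_iff.1 h
      have hd : φ.range.relIndex N ≤ φ.range.relIndex S :=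
        Subgroup.relIndex_le_of_le_right hN (by rw [hRi]; norm_num)
      rw [← Subgroup.inf_relIndex_right, inf_comm, hb, Subgroup.relIndex_bot_left, hRi] at hd
      exact hd
    · right
      rw [Subgroup.subgroupOf_eq_top] at h
      obtain ⟨k, hk⟩ := Subgroup.card_dvd_of_le h
      have hd := Subgroup.card_dvd_of_le hN
      rw [hS, hk, hR] at hd
      rw [hk, hR]
      have h2 : k ∣ 2 := Nat.dvd_of_mul_dvd_mul_left (by norm_num : 0 < 360) (by simpa using hd)
      have hk0 : k ≠ 0 := by rintro rfl; simp at h2
      have := Nat.le_of_dvd (by norm_num) h2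
      interval_cases k
      · omega
      · omega
      · omega
  have hcoreN : ∀ s ∈ S, ∀ n ∈ S.normalCore, s * n * s⁻¹ ∈ S.normalCore := fun s _ n hn =>
    S.normalCore_normal.conj_mem n hn s
  have hcle : Nat.card S.normalCore ≤ 2 := by
    rcases hsmall _ S.normalCore_le hcoreN with h | h | h
    · exact h
    · exfalso
      have : (S.normalCore.subgroupOf φ.range).Normal := (S.normalCore_normal).subgroupOf _
      rcases IsSimpleGroup.eq_bot_or_eq_top_of_normal _ this with hb | hb
      · have hb' : S.normalCore ⊓ φ.range = ⊥ := disjoint_iff.1 (Subgroup.subgroupOf_eq_bot.1 hb)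
        have hd : φ.range.relIndex S.normalCore ≤ φ.range.relIndex S :=
          Subgroup.relIndex_le_of_le_right S.normalCore_le (by rw [hRi]; norm_num)
        rw [← Subgroup.inf_relIndex_right, inf_comm, hb', Subgroup.relIndex_bot_left, h, hRi] at hd
        omega
      · exact hnot (Subgroup.subgroupOf_eq_top.1 hb)
    · have e := Subgroup.eq_of_le_of_card_ge S.normalCore_le (by omega)
      exact absurd (hle.trans_eq e.symm) hnot
  -- the action is faithful
  have hcore : S.normalCore = ⊥ := by
    by_contra hne
    have hc2 : Nat.card S.normalCore = 2 := by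
      have h1 : 1 < Nat.card S.normalCore := (Subgroup.one_lt_card_iff_ne_bot _).2 hne
      omega
    set N := S.normalCore with hN
    have hsurj := QuotientGroup.mk'_surjective N
    set Sb := S.map (QuotientGroup.mk' N) with hSb
    have hiSb : Sb.index = 11 := by
      rw [hSb, Subgroup.index_map_eq S hsurj (by rw [QuotientGroup.ker_mk']; exact S.normalCore_le), hi]
    have hcb : Sb.normalCore = ⊥ := by
      refine (Subgroup.eq_bot_iff_forall _).2 fun x hx => ?_
      obtain ⟨h, rfl⟩ := hsurj x
      refine (QuotientGroup.eq_one_iff h).2 fun b => ?_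
      obtain ⟨s, hs, e⟩ := hx (QuotientGroup.mk' N b)
      rw [← map_inv, ← map_mul, ← map_mul, QuotientGroup.mk'_eq_mk'] at e
      obtain ⟨n, hn, e⟩ := e
      rw [← e]
      exact mul_mem hs (S.normalCore_le hn)
    refine no_degree_eleven Sb hiSb hcb ?_
    have h1 := Sb.card_mul_index
    have h2 := Subgroup.card_eq_card_quotient_mul_card_subgroup N
    rw [hiSb] at h1
    rw [hH, hc2] at h2
    omega
  have : IsSimpleGroup H := by
    have : Nontrivial H := Finite.one_lt_card_iff_nontrivial.1 (by rw [hH]; norm_num)
    refine ⟨fun M hM => ?_⟩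
    by_cases hM1 : M = ⊥
    · exact Or.inl hM1
    refine Or.inr ?_
    have hMS : ¬ M ≤ S := fun h => hM1 (le_bot_iff.1 (hcore ▸ Subgroup.normal_le_normalCore.2 h))
    have hsup : M ⊔ S = ⊤ := by
      have h1 := Subgroup.relIndex_mul_index (le_sup_right : S ≤ M ⊔ S)
      rw [hi] at h1
      rcases (Nat.dvd_prime (by norm_num : Nat.Prime 11)).1 ⟨_, (mul_comm _ _).trans h1 |>.symm⟩ with h | h
      · exact Subgroup.index_eq_one.1 h
      · rw [h] at h1
        have hrel : S.relIndex (M ⊔ S) = 1 := by omega
        exact absurd (le_sup_left.trans (Subgroup.relIndex_eq_one.1 hrel)) hMS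
    have hidx : (S.subgroupOf M).index = 11 := by
      have h1 : M.relIndex S = M.index := by
        rw [← Subgroup.relIndex_sup_left S M, hsup, Subgroup.relIndex_top_right]
      have h2 := (M.subgroupOf S).card_mul_index
      have h3 := M.card_mul_index
      have h4 := (S.subgroupOf M).card_mul_index
      rw [show (M.subgroupOf S).index = M.relIndex S from rfl, h1, hS, ← Subgroup.inf_subgroupOf_right,
        Nat.card_congr (Subgroup.subgroupOfEquivOfLe inf_le_right).toEquiv] at h2
      have hc : Nat.card (S.subgroupOf M) = Nat.card ↥(M ⊓ S) := by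
        rw [← Subgroup.inf_subgroupOf_right,
          Nat.card_congr (Subgroup.subgroupOfEquivOfLe inf_le_right).toEquiv, inf_comm]
      rw [hc] at h4
      rw [hH] at h3
      have hpos : 0 < Nat.card ↥(M ⊓ S) := Nat.card_pos
      have hipos : 0 < M.index := Nat.pos_of_ne_zero Subgroup.index_ne_zero_of_finite
      have e : Nat.card M = 11 * Nat.card ↥(M ⊓ S) := by
        apply Nat.eq_of_mul_eq_mul_right hipos
        rw [h3, mul_assoc, h2]; all_goals norm_num
      rw [e] at h4
      exact Nat.eq_of_mul_eq_mul_left hpos (h4.trans (mul_comm _ _))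
    have hMc : Nat.card (S.subgroupOf M) * 11 = Nat.card M := by
      rw [← hidx, Subgroup.card_mul_index]
    have heq : Nat.card (S.subgroupOf M) = Nat.card ↥(S ⊓ M) := by
      rw [← Subgroup.inf_subgroupOf_right,
        Nat.card_congr (Subgroup.subgroupOfEquivOfLe inf_le_right).toEquiv]
    rcases hsmall (S ⊓ M) inf_le_left (fun s hs n hn =>
      ⟨S.mul_mem (S.mul_mem hs hn.1) (S.inv_mem hs), hM.conj_mem n hn.2 s⟩) with h | h | h
    · exfalso
      obtain ⟨P⟩ := (inferInstance : Nonempty (Sylow 11 M))
      have hMcard : Nat.card M = 11 ∨ Nat.card M = 22 := by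
        have h0 : 0 < Nat.card ↥(S ⊓ M) := Nat.card_pos
        omega
      have hP11 : Nat.card (P : Subgroup M) = 11 := by
        rw [P.card_eq_multiplicity]
        rcases hMcard with e | e <;> rw [e]
        · rw [Nat.Prime.factorization_self (by norm_num)]; rfl
        · rw [show (22 : ℕ) = 2 * 11 by rfl, Nat.factorization_mul (by norm_num) (by norm_num),
            Finsupp.add_apply, Nat.Prime.factorization_self (by norm_num),
            Nat.factorization_eq_zero_of_not_dvd (by norm_num)]
          rfl
      have hPn : (P : Subgroup M).Normal := by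
        have h1 := card_sylow_modEq_one 11 M
        have h2 := P.card_dvd_index
        have h3 := (P : Subgroup M).card_mul_index
        rw [hP11] at h3
        have hle : Nat.card (Sylow 11 M) ≤ 2 :=
          (Nat.le_of_dvd (Nat.pos_of_ne_zero Subgroup.index_ne_zero_of_finite) h2).trans (by omega)
        have h4 : Nat.card (Sylow 11 M) = 1 := by
          have := Nat.card_pos (α := Sylow 11 M)
          unfold Nat.ModEq at h1
          omega
        have := Finite.card_le_one_iff_subsingleton.1 h4.le
        exact Sylow.normal_of_subsingleton P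
      have : (P : Subgroup M).Characteristic := P.characteristic_of_normal hPn
      set PH := (P : Subgroup M).map M.subtype with hPH
      have hPHn : PH.Normal := by
        rw [hPH]; infer_instance
      have hc : Nat.card PH = 11 := by
        rw [hPH, Subgroup.card_map_of_injective M.subtype_injective, hP11]
      let P' : Sylow 11 H := Sylow.ofCard PH (by
        rw [hc, hH, show (7920 : ℕ) = 720 * 11 by rfl, Nat.factorization_mul (by norm_num) (by norm_num),
          Finsupp.add_apply, Nat.Prime.factorization_self (by norm_num),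
          Nat.factorization_eq_zero_of_not_dvd (by norm_num)]
        rfl)
      exact not_normal_eleven S hi hS hcore P' hPHn
    · exfalso
      refine no_degree_eleven (S.subgroupOf M) hidx ((Subgroup.eq_bot_iff_forall _).2 fun x hx => ?_)
        (heq.trans h)
      refine Subtype.ext ((Subgroup.eq_bot_iff_forall _).1 hcore _ fun b => ?_)
      have hb : b ∈ M ⊔ S := hsup ▸ Subgroup.mem_top b
      rw [Subgroup.mem_sup_of_normal_left] at hb
      obtain ⟨m, hm, s, hs, rfl⟩ := hb
      -- move the element of `M` to the right
      set m' : M := ⟨s⁻¹ * m * s, by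
        have := hM.conj_mem m hm s⁻¹
        rwa [inv_inv] at this⟩ with hm'
      have hx' : (m' * x * m'⁻¹ : M) ∈ S.subgroupOf M := hx m'
      have := mul_mem (mul_mem hs hx') (inv_mem hs)
      convert this using 1
      simp [hm', mul_assoc]
    · refine Subgroup.eq_top_of_card_eq _ ?_
      rw [← hMc, heq, h, hH]
  exact CfsgLib.Sporadic.M11.nonempty_equiv_sporM11 hH

end CfsgLib.SuzM11
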