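import Cfsg.Agent.Lib.SuzType.ThreeSide
import Cfsg.Agent.Lib.MonsterType.LocalLift

/-!
A subgroup of order `27` and exponent `3` of `C(z) ∩ C(y)` containing `y` has exactly six conjugates of `y`.
-/

set_option autoImplicit false
set_option linter.style.longLine false
set_option maxHeartbeats 1000000
set_option synthInstance.maxSize 8000
set_option synthInstance.maxHeartbeats 1000000
set_option linter.unusedSectionVars false

namespace CfsgLib.SuzM11

open Subgroup CfsgLib.SuzType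
open scoped Pointwise

/-- The parameters without a plane permutation. -/
abbrev Rot := Fin 3 × Fin 3 × Fin 3

/-- The parameter of a rotation. -/
def rot (r : Rot) : Par := (r.1, r.2.1, r.2.2, 0)

/-- The rotations of a single plane. -/
def single : Finset Rot := {(0, 0, 1), (0, 0, 2), (1, 0, 0), (2, 0, 0), (0, 1, 0), (0, 2, 0)}

theorem single_card : single.card = 6 := by decide +kernel

theorem cube_par : ∀ p : Par, (∀ i, pmap p (pmap p (pmap p (six i))) = six i) → p.2.2.2 = 0 := by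
  decide +kernel

theorem rot_mul : ∀ r r' : Rot, ∀ i, pmap (rot r) (pmap (rot r') (six i)) = pmap (rot (r + r')) (six i) := by
  decide +kernel

theorem rot_zero : ∀ v : V, pmap (rot 0) v = v := by decide +kernel

theorem rot_fix : ∀ r : Rot, (Finset.univ.filter fun v => pmap (rot r) v = v).card = 16 → r ∈ single := by
  decide +kernel

theorem Y0_rot : ∀ i, Y0 (six i) = pmap (rot (0, 0, 1)) (six i) := by decide +kernel

/-- Words carrying the rotation of the third plane to the six rotations. -/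
def wordTo : Rot → List V := fun r =>
  if r = (0, 0, 2) then [((0, 0), ((0, 0), (0, 1))), ((0, 0), ((1, 1), (0, 0)))]
  else if r = (1, 0, 0) then [((0, 0), ((0, 0), (0, 1))), ((0, 0), ((0, 1), (0, 1))), ((0, 1), ((1, 0), (1, 1))), ((1, 0), ((1, 0), (1, 0)))]
  else if r = (2, 0, 0) then [((0, 0), ((0, 0), (0, 1))), ((0, 0), ((0, 1), (0, 1))), ((0, 1), ((1, 0), (1, 0))), ((1, 0), ((1, 0), (1, 1)))]
  else if r = (0, 1, 0) then [((0, 0), ((0, 0), (0, 1))), ((0, 0), ((0, 1), (0, 1))), ((0, 0), ((1, 0), (1, 0))), ((1, 1), ((1, 1), (1, 1)))]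
  else if r = (0, 2, 0) then [((0, 0), ((0, 0), (0, 1))), ((0, 0), ((0, 1), (0, 1))), ((0, 0), ((1, 0), (1, 1))), ((1, 1), ((1, 1), (1, 0)))]
  else []

theorem wordTo_spec : ∀ r ∈ single, (∀ a ∈ wordTo r, qV 1 a = 1) ∧ (wordTo r).length % 2 = 0 ∧
    ∀ i, app (wordTo r) (Y0 (six i)) = pmap (rot r) (app (wordTo r) (six i)) := by
  decide +kernel

variable {G : Type*} [Group G] [Finite G] {z : G} {Q : Subgroup G} {K : Coord z Q 1} {y : G}

theorem eq_one_of_mem {T : Three K y} {d : G} (h3 : d ^ 3 = 1) (hQ : d ∈ Q) : d = 1 := by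
  have h1 : orderOf d ∣ 128 := by
    rw [← T.hyp.card, ← Subgroup.orderOf_mk d hQ]; exact orderOf_dvd_natCard _
  have h2 : orderOf d ∣ 3 := orderOf_dvd_of_pow_eq_one h3
  exact orderOf_eq_one_iff.1 (Nat.dvd_one.1 (Nat.dvd_gcd h1 h2))

/-- Two elements of order three with the same action are conjugate under `Q`. -/
theorem exists_conj_Q (T : Three K y) {b d : G} (hb : orderOf b = 3) (hd : orderOf d = 3)
    (hbz : b * z = z * b) (hdz : d * z = z * d) (h : K.act d = K.act b) :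
    ∃ q ∈ Q, q * d * q⁻¹ = b := by
  classical
  have : Fact (Nat.Prime 3) := ⟨Nat.prime_three⟩
  have H := T.hyp
  have hnorm : Subgroup.zpowers b ≤ Subgroup.normalizer (Q : Set G) := by
    rw [Subgroup.zpowers_le, Subgroup.mem_normalizer_iff]
    intro q
    refine ⟨H.norm b hbz q, fun hq => ?_⟩
    have h1 := H.norm b⁻¹ (Commute.inv_left hbz).eq _ hq
    simpa [mul_assoc] using h1
  set M := Subgroup.zpowers b ⊔ Q with hM
  have hbM : b ∈ M := Subgroup.mem_sup_left (Subgroup.mem_zpowers b)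
  have hdb : b⁻¹ * d ∈ Q := by
    have hz' : b⁻¹ * d * z = z * (b⁻¹ * d) := (Commute.mul_left (Commute.inv_left hbz) hdz).eq
    refine K.mem_of_act H hz' fun v => ?_
    rw [K.act_mul H (Commute.inv_left hbz).eq hdz, h, K.act_inv_cancel H hbz]
  have hdM : d ∈ M := by
    rw [show d = b * (b⁻¹ * d) by group]
    exact mul_mem hbM (Subgroup.mem_sup_right hdb)
  have hb3 : b ^ 3 = 1 := by rw [← hb, pow_orderOf_eq_one]
  have hmem : ∀ m ∈ M, ∃ i : Fin 3, ∃ q : Q, m = b ^ (i : ℕ) * q := by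
    intro m hm
    have h1 : m ∈ ((Subgroup.zpowers b : Set G) * (Q : Set G)) := by
      rw [← Subgroup.coe_mul_of_left_le_normalizer_right _ _ hnorm]; exact hm
    obtain ⟨a, ha, q, hq, e⟩ := h1
    obtain ⟨k, hk⟩ := (isOfFinOrder_of_finite b).mem_powers_iff_mem_zpowers.2 ha
    refine ⟨⟨k % 3, Nat.mod_lt _ (by norm_num)⟩, ⟨q, hq⟩, ?_⟩
    show m = b ^ (k % 3) * q
    rw [← pow_eq_pow_mod _ hb3, ← e]
    exact congrArg (· * q) hk.symm
  have hle : Nat.card M ≤ 384 := by
    let f : Fin 3 × Q → M := fun p => ⟨b ^ (p.1 : ℕ) * p.2,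
      mul_mem (pow_mem hbM _) (Subgroup.mem_sup_right p.2.2)⟩
    have hf : Function.Surjective f := fun m => by
      obtain ⟨i, q, e⟩ := hmem m m.2
      exact ⟨(i, q), Subtype.ext e.symm⟩
    have := Nat.card_le_card_of_surjective f hf
    rwa [Nat.card_prod, Nat.card_fin, H.card] at this
  have hcard : ¬ 3 ^ 2 ∣ Nat.card M := by
    intro h9
    have h128 : 128 ∣ Nat.card M := H.card ▸ Subgroup.card_dvd_of_le le_sup_right
    have := Nat.le_of_dvd Nat.card_pos (Nat.Coprime.mul_dvd_of_dvd_of_dvd (by norm_num) h128 h9)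
    omega
  obtain ⟨⟨m, hm⟩, hmd⟩ := CfsgLib.MonsterType.Local.exists_conj_zpowers (p := 3) (a := (⟨b, hbM⟩ : M))
    (c := ⟨d, hdM⟩) (by rw [Subgroup.orderOf_mk, hb]) (by rw [Subgroup.orderOf_mk, hd]) hcard
  have hmd' : m * d * m⁻¹ ∈ Subgroup.zpowers b := by
    obtain ⟨k, hk⟩ := Subgroup.mem_zpowers_iff.1 hmd
    exact Subgroup.mem_zpowers_iff.2 ⟨k, congrArg Subtype.val hk⟩
  obtain ⟨i, q, rfl⟩ := hmem m hm
  refine ⟨q, q.2, ?_⟩
  obtain ⟨k, hk⟩ := (isOfFinOrder_of_finite b).mem_powers_iff_mem_zpowers.2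
    (mul_mem (mul_mem (inv_mem (pow_mem (Subgroup.mem_zpowers b) (i : ℕ))) hmd') (pow_mem (Subgroup.mem_zpowers b) (i : ℕ)))
  have hk' : (q : G) * d * (q : G)⁻¹ = b ^ (k % 3) := by
    rw [← pow_eq_pow_mod _ hb3]
    refine Eq.trans ?_ hk.symm
    group
  have hqz : (q : G) * z = z * q := H.extra.comm_z q.2
  have hact : ∀ v, K.act ((q : G) * d * (q : G)⁻¹) v = K.act d v := fun v => by
    rw [K.act_mul H (Commute.mul_left hqz hdz).eq (Commute.inv_left hqz).eq, K.act_mem H (inv_mem q.2),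
      K.act_mul H hqz hdz, K.act_mem H q.2]
  have hk2 : k % 3 < 3 := Nat.mod_lt _ (by norm_num)
  generalize k % 3 = j at hk' hk2
  interval_cases j
  · rw [pow_zero, conj_eq_one_iff] at hk'
    rw [hk', orderOf_one] at hd
    exact absurd hd (by norm_num)
  · rw [hk', pow_one]
  · exfalso
    have : b ∈ Q := K.mem_of_act H hbz fun v => by
      have h1 : ∀ u, K.act b u = K.act b (K.act b u) := fun u => by
        rw [← K.act_mul H hbz hbz, ← pow_two, ← hk', hact, h]
      exact (K.act_injective H hbz (h1 v)).symm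
    have h1 := eq_one_of_mem (T := T) hb3 this
    rw [h1, orderOf_one] at hb
    exact absurd hb (by norm_num)

variable (T : Three K y) (D' : Subgroup G) (hle : D' ≤ Dg z y) (h3 : ∀ d ∈ D', d ^ 3 = 1)
  (hcard : Nat.card D' = 27) (hy : y ∈ D')
  (hone : ∀ t, t * t = 1 → t ≠ 1 → t * y = y * t → ∃ k, k * y = y * k ∧ k * t * k⁻¹ = z)

include T hle h3 in
theorem exists_rot_par {d : G} (hd : d ∈ D') : ∃ r : Rot, K.act d = pmap (rot r) := by
  obtain ⟨p, hp⟩ := T.exists_par (hle hd)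
  have hdz := (mem_Dg.1 (hle hd)).1
  have h0 : p.2.2.2 = 0 := cube_par p fun i => by
    rw [← hp, ← K.act_mul T.hyp hdz hdz, ← K.act_mul T.hyp (Commute.mul_left hdz hdz).eq hdz,
      show d * d * d = d ^ 3 by rw [pow_succ, pow_two], h3 d hd, K.act_one T.hyp]
  refine ⟨(p.1, p.2.1, p.2.2.1), hp.trans (congrArg pmap ?_)⟩
  obtain ⟨i, j, k, l⟩ := p
  simp only at h0
  subst h0
  rfl

include T hle h3 hcard in
theorem exists_param : ∃ r : D' → Rot, Function.Bijective r ∧ (∀ d : D', K.act d = pmap (rot (r d))) ∧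
    ∀ d d' : D', r (d * d') = r d + r d' := by
  choose r hr using fun d : D' => exists_rot_par T D' hle h3 d.2
  have hz : ∀ d : D', (d : G) * z = z * d := fun d => (mem_Dg.1 (hle d.2)).1
  have hinj : Function.Injective r := by
    intro d d' e
    obtain ⟨hq, -⟩ := T.div_mem (hle d.2) (hle d'.2) (by rw [hr, hr, e])
    exact Subtype.ext (inv_mul_eq_one.1 (eq_one_of_mem (T := T) (h3 _ (mul_mem (inv_mem d.2) d'.2)) hq))
  have : Finite D' := inferInstance
  refine ⟨r, (Nat.bijective_iff_injective_and_card r).2 ⟨hinj, ?_⟩, hr, fun d d' => ?_⟩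
  · rw [hcard, Nat.card_eq_fintype_card]; rfl
  · have e : ∀ r r' : Rot, rot r = rot r' → r = r' := by decide
    refine e _ _ (pmap_inj ?_)
    rw [← hr, Subgroup.coe_mul]
    refine eq_six (K.act_add T.hyp (Commute.mul_left (hz d) (hz d')).eq) (pmap_add _) fun i => ?_
    rw [K.act_mul T.hyp (hz d) (hz d'), hr, hr, rot_mul]

include T in
/-- The rotation of a single plane is conjugate to `y`. -/
theorem isConj_of_single {d : G} (hd : orderOf d = 3) (hdz : d * z = z * d) {r : Rot} (hr : K.act d = pmap (rot r))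
    (hs : r ∈ single) : IsConj y d := by
  obtain ⟨hq, hev, hsp⟩ := wordTo_spec r hs
  obtain ⟨c, hc, hca⟩ := K.exists_act_word T.hyp (wordTo r) hq hev
  have hc' : c⁻¹ * z = z * c⁻¹ := (Commute.inv_left hc).eq
  have hcy : c * y * z = z * (c * y) := (Commute.mul_left hc T.yz).eq
  have hyz : c * y * c⁻¹ * z = z * (c * y * c⁻¹) := (Commute.mul_left hcy hc').eq
  have ho : orderOf (c * y * c⁻¹) = 3 := by
    rw [← MulAut.conj_apply, MulEquiv.orderOf_eq, T.ord]
  have key : ∀ v, app (wordTo r) (Y0 v) = pmap (rot r) (app (wordTo r) v) :=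
    congrFun (eq_six (f := fun v => app (wordTo r) (Y0 v)) (g := fun v => pmap (rot r) (app (wordTo r) v))
      (fun a b => by simp only [Y0_add, app_add]) (fun a b => by simp only [app_add, pmap_add]) hsp)
  obtain ⟨q, hq, e⟩ := exists_conj_Q T ho hd hyz hdz (by
    funext v
    obtain ⟨u, rfl⟩ : ∃ u, K.act c u = v := ⟨K.act c⁻¹ v, by
      rw [← K.act_mul T.hyp hc hc', mul_inv_cancel, K.act_one T.hyp]⟩
    rw [K.act_mul T.hyp hcy hc', K.act_inv_cancel T.hyp hc, K.act_mul T.hyp hc T.yz, T.act, hr, hca, hca]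
    exact (key u).symm)
  refine isConj_iff.2 ⟨q⁻¹ * c, ?_⟩
  calc q⁻¹ * c * y * (q⁻¹ * c)⁻¹ = q⁻¹ * (c * y * c⁻¹) * q := by group
    _ = d := by rw [← e]; group

include T hone in
/-- A conjugate of `y` in the common centralizer rotates a single plane. -/
theorem single_of_isConj {d : G} (hd : d ∈ Dg z y) {r : Rot} (hr : K.act d = pmap (rot r))
    (h : IsConj y d) : r ∈ single := by
  classical
  obtain ⟨hdz, -⟩ := mem_Dg.1 hd
  obtain ⟨g, hg⟩ := isConj_iff.1 h
  obtain ⟨k, hky, hk⟩ := hone (g⁻¹ * z * g) (by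
      rw [show g⁻¹ * z * g * (g⁻¹ * z * g) = g⁻¹ * (z * z) * g by group, Coord.zz T.hyp]; group)
    (fun e => T.hyp.extra.ne_one (by
      calc z = g * (g⁻¹ * z * g) * g⁻¹ := by group
        _ = 1 := by rw [e]; group))
    (by
      calc g⁻¹ * z * g * y = g⁻¹ * (z * (g * y * g⁻¹)) * g := by group
        _ = g⁻¹ * ((g * y * g⁻¹) * z) * g := by rw [hg, hdz]
        _ = y * (g⁻¹ * z * g) := by group)
  set c := k * g⁻¹ with hc
  have hcz : c * z = z * c := by
    refine mul_inv_eq_iff_eq_mul.1 ?_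
    rw [hc]
    refine Eq.trans ?_ hk
    group
  have hcd : c * d * c⁻¹ = y := by
    calc c * d * c⁻¹ = k * (g⁻¹ * d * g) * k⁻¹ := by rw [hc]; group
      _ = k * y * k⁻¹ := by rw [← hg]; group
      _ = y := by rw [hky, mul_inv_cancel_right]
  refine rot_fix r ?_
  rw [← fix_count]
  refine Finset.card_bij (fun v _ => K.act c v) (fun v hv => ?_) (fun a _ b _ e => K.act_injective T.hyp hcz e)
    fun v hv => ?_
  · simp only [Finset.mem_filter, Finset.mem_univ, true_and] at hv ⊢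
    rw [← T.act, ← hcd, K.act_conj_apply T.hyp hcz hdz, hr, hv]
  · simp only [Finset.mem_filter, Finset.mem_univ, true_and] at hv ⊢
    have hc' : c⁻¹ * z = z * c⁻¹ := (Commute.inv_left hcz).eq
    have hcc : K.act c (K.act c⁻¹ v) = v := by
      rw [← K.act_mul T.hyp hcz hc', mul_inv_cancel, K.act_one T.hyp]
    refine ⟨K.act c⁻¹ v, K.act_injective T.hyp hcz ?_, hcc⟩
    rw [← hr, ← K.act_conj_apply T.hyp hcz hdz, hcd, hcc, T.act, hv]

include T hle h3 hcard hone in
theorem isConj_iff_single {r : D' → Rot} (hr : ∀ d : D', K.act d = pmap (rot (r d))) (d : D') :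
    IsConj y d ↔ r d ∈ single := by
  refine ⟨single_of_isConj T hone (hle d.2) (hr d), fun hs => ?_⟩
  have : Fact (Nat.Prime 3) := ⟨Nat.prime_three⟩
  refine isConj_of_single T (orderOf_eq_prime (h3 _ d.2) fun e => ?_) (mem_Dg.1 (hle d.2)).1 (hr d) hs
  have h0 : pmap (rot (r d)) = pmap (rot 0) := funext fun v => by
    rw [← hr, e, K.act_one T.hyp, rot_zero]
  have e' : ∀ r : Rot, rot r = rot 0 → r ∉ single := by decide
  exact e' _ (pmap_inj h0) hs

include T hle h3 hcard hone in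
/-- There are six conjugates of `y`. -/
theorem six_conj : {d : G | d ∈ D' ∧ IsConj y d}.ncard = 6 := by
  classical
  obtain ⟨r, hb, hr, -⟩ := exists_param T D' hle h3 hcard
  rw [← single_card, ← Set.ncard_coe_finset, ← Nat.card_coe_set_eq, ← Nat.card_coe_set_eq]
  refine Nat.card_congr (Equiv.ofBijective (fun d => ⟨r ⟨d.1, d.2.1⟩,
    (isConj_iff_single T D' hle h3 hcard hone hr _).1 d.2.2⟩) ⟨fun a b e => ?_, fun s => ?_⟩)
  · have e1 := hb.1 (congrArg Subtype.val e)
    exact Subtype.ext (congrArg (fun x : D' => (x : G)) e1)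
  · obtain ⟨d, hd⟩ := hb.2 s.1
    exact ⟨⟨d.1, d.2, (isConj_iff_single T D' hle h3 hcard hone hr d).2 (by rw [hd]; exact s.2)⟩,
      Subtype.ext hd⟩

include T hle h3 hcard hy in
theorem r_y {r : D' → Rot} (hr : ∀ d : D', K.act d = pmap (rot (r d))) : r ⟨y, hy⟩ = (0, 0, 1) := by
  have e : ∀ r r' : Rot, rot r = rot r' → r = r' := by decide
  refine e _ _ (pmap_inj ?_)
  rw [← hr]
  show K.act y = _
  rw [T.act]
  exact eq_six Y0_add (pmap_add _) Y0_rot

include T hle h3 hcard hy hone in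
/-- Two conjugates of `y` outside `⟨y⟩` which agree modulo `⟨y⟩` are equal. -/
theorem conj_sep {d d' : G} (hd : d ∈ D') (hd' : d' ∈ D') (h : IsConj y d) (h' : IsConj y d')
    (hn : d ∉ Subgroup.zpowers y) {n : ℕ} (e : d' = d * y ^ n) : d = d' := by
  obtain ⟨r, hb, hr, hadd⟩ := exists_param T D' hle h3 hcard
  have hs := (isConj_iff_single T D' hle h3 hcard hone hr ⟨d, hd⟩).1 h
  have hs' := (isConj_iff_single T D' hle h3 hcard hone hr ⟨d', hd'⟩).1 h'
  have hy1 := r_y T D' hle h3 hcard hy hr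
  have hpow : ∀ m : ℕ, r (⟨y, hy⟩ ^ m) = m • ((0, 0, 1) : Rot) := by
    intro m
    induction m with
    | zero =>
      have h0 := hadd 1 1
      rw [mul_one] at h0
      rw [pow_zero, zero_smul]
      exact left_eq_add.mp h0
    | succ m ih => rw [pow_succ, hadd, ih, hy1, succ_nsmul]
  have e1 : (⟨d', hd'⟩ : D') = ⟨d, hd⟩ * ⟨y, hy⟩ ^ n := Subtype.ext e
  rw [e1, hadd, hpow] at hs'
  have hn' : r ⟨d, hd⟩ ∉ ({(0, 0, 0), (0, 0, 1), (0, 0, 2)} : Finset Rot) := by
    intro hm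
    refine hn ?_
    simp only [Finset.mem_insert, Finset.mem_singleton] at hm
    have key : ∀ m : ℕ, r ⟨d, hd⟩ = m • ((0, 0, 1) : Rot) → d ∈ Subgroup.zpowers y := fun m hm => by
      rw [← hpow] at hm
      rw [show d = y ^ m from congrArg Subtype.val (hb.1 hm)]
      exact pow_mem (Subgroup.mem_zpowers y) m
    rcases hm with hm | hm | hm
    · exact key 0 (by rw [hm]; rfl)
    · exact key 1 (by rw [hm]; rfl)
    · exact key 2 (by rw [hm]; rfl)
  have dec : ∀ a ∈ single, a ∉ ({(0, 0, 0), (0, 0, 1), (0, 0, 2)} : Finset Rot) →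
      ∀ m : Fin 3, a + (m : ℕ) • ((0, 0, 1) : Rot) ∈ single → m = 0 := by decide
  have hmod : n • ((0, 0, 1) : Rot) = (n % 3) • ((0, 0, 1) : Rot) := by
    conv_lhs => rw [← Nat.mod_add_div n 3]
    rw [add_nsmul, mul_nsmul, show (3 : ℕ) • ((0, 0, 1) : Rot) = 0 from rfl, smul_zero, add_zero]
  rw [hmod] at hs'
  have h0 := congrArg Fin.val (dec _ hs hn' ⟨n % 3, Nat.mod_lt _ (by norm_num)⟩ hs')
  simp only [Fin.val_zero] at h0
  rw [e, pow_eq_pow_mod n T.y_three, h0, pow_zero, mul_one]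

include T hle h3 hcard hy hone in
theorem conj_inv : IsConj y y⁻¹ := by
  obtain ⟨r, hb, hr, hadd⟩ := exists_param T D' hle h3 hcard
  refine (isConj_iff_single T D' hle h3 hcard hone hr ⟨y⁻¹, inv_mem hy⟩).2 ?_
  have h0 := hadd 1 1
  rw [mul_one] at h0
  have h1 := hadd ⟨y⁻¹, inv_mem hy⟩ ⟨y, hy⟩
  rw [show (⟨y⁻¹, inv_mem hy⟩ : D') * ⟨y, hy⟩ = 1 from Subtype.ext (inv_mul_cancel y), r_y T D' hle h3 hcard hy hr,
    left_eq_add.mp h0] at h1
  rw [eq_neg_of_add_eq_zero_left h1.symm]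
  decide

end CfsgLib.SuzM11
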